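import Mathlib
import Groth.Prelude.Def_GrSeg
import Groth.Prelude.Def_GrLC

/-! Graded `k`-duals: the universal property, finiteness of pieces, chain conditions. -/

set_option autoImplicit false
universe u

open DirectSum

namespace Groth.Agent.GDualLib

variable {k : Type u} [Field k] {R : Type u} [CommRing R] [Algebra k R]
  {𝒜 : ℤ → Submodule k R} [GradedAlgebra 𝒜]
  {M : Type u} [AddCommGroup M] [Module R M] [Module k M] [IsScalarTower k R M]
  {τ : Type u} [SetLike τ M] [AddSubgroupClass τ M]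
  {ℳ : ℤ → τ} [Decomposition ℳ] [SetLike.GradedSMul 𝒜 ℳ]

variable (𝒜) in
theorem smul_mem' {h g : ℤ} {r : R} (hr : r ∈ 𝒜 h) {x : M} (hx : x ∈ ℳ g) : r • x ∈ ℳ (h + g) := by
  simpa using SetLike.GradedSMul.smul_mem (A := 𝒜) (B := ℳ) hr hx

variable (𝒜) (ℳ) in
include 𝒜 in
theorem ksmul_mem {g : ℤ} (c : k) {x : M} (hx : x ∈ ℳ g) : c • x ∈ ℳ g := by
  rw [← algebraMap_smul R c x]
  have h0 : algebraMap k R c ∈ 𝒜 0 := by
    rw [Algebra.algebraMap_eq_smul_one]; exact (𝒜 0).smul_mem c SetLike.GradedOne.one_mem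
  simpa using smul_mem' 𝒜 h0 hx

variable (𝒜) (ℳ) in
/-- The piece of degree `g` as a `k`-subspace. -/
def kp (g : ℤ) : Submodule k M where
  carrier := {x | x ∈ ℳ g}
  add_mem' ha hb := add_mem ha hb
  zero_mem' := zero_mem _
  smul_mem' c x hx := ksmul_mem 𝒜 ℳ c hx

omit [Module R M] [Module k M] [IsScalarTower k R M] [SetLike.GradedSMul 𝒜 ℳ] in
theorem mem_pr (g : ℤ) (x : M) : ((decompose ℳ x g : ℳ g) : M) ∈ ℳ g := (decompose ℳ x g).2

variable (𝒜) (ℳ) in
/-- The projection to degree `g`, linear over `k`. -/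
noncomputable def prk (g : ℤ) : M →ₗ[k] M where
  toFun x := ((decompose ℳ x g : ℳ g) : M)
  map_add' x y := by simp
  map_smul' c x := by
    classical
    induction x using DirectSum.Decomposition.inductionOn ℳ with
    | zero => simp
    | homogeneous m =>
      rename_i i
      rcases eq_or_ne i g with h | h
      · subst h
        rw [decompose_of_mem_same ℳ (ksmul_mem 𝒜 ℳ c m.2), decompose_of_mem_same ℳ m.2]; rfl
      · rw [decompose_of_mem_ne ℳ (ksmul_mem 𝒜 ℳ c m.2) h, decompose_of_mem_ne ℳ m.2 h]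
        simp
    | add a b ha hb =>
      simp only [RingHom.id_apply] at ha hb ⊢
      rw [smul_add, decompose_add, decompose_add]
      simp only [DirectSum.add_apply, AddMemClass.coe_add, ha, hb, smul_add]

theorem prk_self {g : ℤ} {x : M} (hx : x ∈ ℳ g) : prk 𝒜 ℳ g x = x := decompose_of_mem_same ℳ hx

theorem prk_ne {g j : ℤ} {x : M} (hx : x ∈ ℳ j) (h : j ≠ g) : prk 𝒜 ℳ g x = 0 := decompose_of_mem_ne ℳ hx h

theorem prk_mem (g : ℤ) (x : M) : prk 𝒜 ℳ g x ∈ ℳ g := (decompose ℳ x g).2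

variable (ℳ) in
/-- Linear functionals agreeing on every piece are equal. -/
theorem hom_ext {N : Type u} [AddCommGroup N] [Module k N] {f f' : M →ₗ[k] N}
    (h : ∀ (g : ℤ) (x : M), x ∈ ℳ g → f x = f' x) : f = f' := by
  classical
  ext x
  induction x using DirectSum.Decomposition.inductionOn ℳ with
  | zero => simp
  | homogeneous m => exact h _ _ m.2
  | add a b ha hb => simp [ha, hb]

include 𝒜 in
theorem prk_smul {i : ℤ} {r : R} (hr : r ∈ 𝒜 i) (g : ℤ) (x : M) :
    prk 𝒜 ℳ g (r • x) = r • prk 𝒜 ℳ (g - i) x := by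
  have := hom_ext ℳ (f := (prk 𝒜 ℳ g).comp (Algebra.lsmul k k M r))
    (f' := (Algebra.lsmul k k M r).comp (prk 𝒜 ℳ (g - i))) fun j e he => by
      simp only [LinearMap.comp_apply, Algebra.lsmul_coe]
      rcases eq_or_ne j (g - i) with rfl | hj
      · rw [prk_self he, prk_self]
        simpa using smul_mem' 𝒜 hr he
      · rw [prk_ne he hj, smul_zero, prk_ne (smul_mem' 𝒜 hr he) (by omega)]
  exact LinearMap.congr_fun this x

variable {D : Type u} [AddCommGroup D] [Module R D] [Module k D] [IsScalarTower k R D]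
  {τ' : Type u} [SetLike τ' D] [AddSubgroupClass τ' D]
  {𝒟 : ℤ → τ'} [Decomposition 𝒟] [SetLike.GradedSMul 𝒜 𝒟]
  {β : D →ₗ[k] M →ₗ[k] k}

include 𝒜 in
theorem β_prk (h : GrSeg.IsGDual R ℳ 𝒟 β) {n : ℤ} {x : M} (hx : x ∈ ℳ (-n)) (d : D) :
    β (prk 𝒜 𝒟 n d) x = β d x := by
  have := hom_ext 𝒟 (f := ((LinearMap.applyₗ x).comp β).comp (prk 𝒜 𝒟 n))
    (f' := (LinearMap.applyₗ x).comp β) fun j e he => by
      rcases eq_or_ne j n with rfl | hj
      · simp [prk_self he]
      · simpa [prk_ne he hj] using (h.vanish j e he (-n) (by omega) x hx).symm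
  exact LinearMap.congr_fun this d

include 𝒜 in
theorem β_injective (h : GrSeg.IsGDual R ℳ 𝒟 β) : Function.Injective β := by
  classical
  refine (injective_iff_map_eq_zero β).mpr fun d hd => ?_
  have : ∀ n, prk 𝒜 𝒟 n d = 0 := fun n =>
    h.eq_zero n _ (prk_mem n d) fun x hx => by rw [β_prk h hx, hd]; rfl
  refine (decompose 𝒟).injective (DFinsupp.ext fun n => Subtype.ext ?_)
  simpa [prk] using this n

include 𝒜 in
/-- Separation on the side of `M`. -/
theorem exists_ne_zero (h : GrSeg.IsGDual R ℳ 𝒟 β) {j : ℤ} {x : M} (hx : x ∈ ℳ j) (hne : x ≠ 0) :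
    ∃ d ∈ 𝒟 (-j), β d x = 1 := by
  obtain ⟨g, hg⟩ := Module.Projective.exists_dual_ne_zero k hne
  obtain ⟨d, hd, hdx⟩ := h.exists_eq (-j) ((g x)⁻¹ • g)
  exact ⟨d, hd, by rw [hdx x (by rwa [neg_neg]), LinearMap.smul_apply, smul_eq_mul, inv_mul_cancel₀ hg]⟩

variable {A : Type u} [AddCommGroup A] [Module R A] [Module k A] [IsScalarTower k R A]
  {σ : Type u} [SetLike σ A] [AddSubgroupClass σ A] {𝒶 : ℤ → σ} [Decomposition 𝒶] [SetLike.GradedSMul 𝒜 𝒶]

include 𝒜 in
/-- The universal property of the graded dual: maps into `D` are balanced pairings. -/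
theorem exists_lift (h : GrSeg.IsGDual R ℳ 𝒟 β) (Φ : A →ₗ[k] M →ₗ[k] k)
    (hbal : ∀ (r : R) (a : A) (x : M), Φ (r • a) x = Φ a (r • x)) (s : ℤ)
    (hvan : ∀ (n : ℤ) (a : A), a ∈ 𝒶 n → ∀ m, m ≠ -(n + s) → ∀ x ∈ ℳ m, Φ a x = 0) :
    ∃ g : A →ₗ[R] D, (∀ n a, a ∈ 𝒶 n → g a ∈ 𝒟 (n + s)) ∧ ∀ a, β (g a) = Φ a := by
  classical
  have hhom : ∀ n a, a ∈ 𝒶 n → ∃ d ∈ 𝒟 (n + s), β d = Φ a := fun n a ha => by
    obtain ⟨d, hd, hdx⟩ := h.exists_eq (n + s) (Φ a)
    refine ⟨d, hd, hom_ext ℳ fun m x hx => ?_⟩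
    rcases eq_or_ne m (-(n + s)) with rfl | hm
    · exact hdx x hx
    · rw [h.vanish _ d hd m hm x hx, hvan n a ha m hm x hx]
  have hall : ∀ a, Φ a ∈ LinearMap.range β := fun a => by
    induction a using DirectSum.Decomposition.inductionOn 𝒶 with
    | zero => simp
    | homogeneous m => exact (hhom _ _ m.2).elim fun d hd => ⟨d, hd.2⟩
    | add a b ha hb => rw [map_add]; exact add_mem ha hb
  choose g hg using hall
  refine ⟨{ toFun := g, map_add' := fun a b => β_injective (𝒜 := 𝒜) h (by rw [map_add, hg, hg, hg, map_add]),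
            map_smul' := fun r a => β_injective (𝒜 := 𝒜) h (LinearMap.ext fun x => ?_) }, fun n a ha => ?_, hg⟩
  · rw [hg, RingHom.id_apply, h.map_smul, hg, hbal]
  · obtain ⟨d, hd, hde⟩ := hhom n a ha
    change g a ∈ _
    rwa [β_injective (𝒜 := 𝒜) h ((hg a).trans hde.symm)]

/-- A finitely generated or Artinian module has finite-dimensional pieces. -/
theorem finiteDimensional_kp (hpos : ∀ n : ℤ, n < 0 → 𝒜 n = ⊥) (h0 : 𝒜 0 = Submodule.span k {(1 : R)})
    (hM : IsNoetherian R M ∨ IsArtinian R M) (g : ℤ) : FiniteDimensional k (kp 𝒜 ℳ g) := by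
  classical
  let S : Submodule k (kp 𝒜 ℳ g) → Submodule R M := fun P => Submodule.span R (P.map (kp 𝒜 ℳ g).subtype : Set M)
  have key : ∀ P x, x ∈ S P → prk 𝒜 ℳ g x ∈ P.map (kp 𝒜 ℳ g).subtype ∧ ∀ j < g, prk 𝒜 ℳ j x = 0 := by
    intro P x hx
    induction hx using Submodule.span_induction with
    | mem x hx =>
      obtain ⟨y, -, rfl⟩ := id hx
      rw [Submodule.subtype_apply, prk_self (show (y : M) ∈ ℳ g from y.2)]
      exact ⟨hx, fun j hj => prk_ne (show (y : M) ∈ ℳ g from y.2) hj.ne'⟩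
    | zero => simp
    | add a b _ _ ha hb =>
      exact ⟨by rw [map_add]; exact add_mem ha.1 hb.1, fun j hj => by rw [map_add, ha.2 j hj, hb.2 j hj, add_zero]⟩
    | smul r a _ ha =>
      induction r using DirectSum.Decomposition.inductionOn 𝒜 with
      | zero => simp
      | homogeneous m =>
        rename_i i
        obtain ⟨m, hm⟩ := m
        dsimp only
        rcases lt_trichotomy i 0 with hi | hi | hi
        · rw [hpos i hi, Submodule.mem_bot] at hm; simp [hm]
        · subst hi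
          rw [h0, Submodule.mem_span_singleton] at hm
          obtain ⟨c, rfl⟩ := hm
          simp only [smul_assoc, one_smul, map_smul]
          exact ⟨Submodule.smul_mem _ c ha.1, fun j hj => by rw [ha.2 j hj, smul_zero]⟩
        · exact ⟨by rw [prk_smul hm, ha.2 _ (by omega), smul_zero]; exact zero_mem _,
            fun j hj => by rw [prk_smul hm, ha.2 _ (by omega), smul_zero]⟩
      | add p q hp hq =>
        exact ⟨by rw [add_smul, map_add]; exact add_mem hp.1 hq.1,
          fun j hj => by rw [add_smul, map_add, hp.2 j hj, hq.2 j hj, add_zero]⟩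
  have hmono : StrictMono S := by
    refine Monotone.strictMono_of_injective (fun P Q h => Submodule.span_mono (Submodule.map_mono h)) fun P Q h => ?_
    refine Submodule.map_injective_of_injective (kp 𝒜 ℳ g).injective_subtype (le_antisymm ?_ ?_)
    · rintro x ⟨y, hy, rfl⟩
      have h1 : (y : M) ∈ S Q := h ▸ Submodule.subset_span ⟨y, hy, rfl⟩
      have := (key Q _ h1).1
      rwa [prk_self (show (y : M) ∈ ℳ g from y.2)] at this
    · rintro x ⟨y, hy, rfl⟩
      have h1 : (y : M) ∈ S P := h.symm ▸ Submodule.subset_span ⟨y, hy, rfl⟩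
      have := (key P _ h1).1
      rwa [prk_self (show (y : M) ∈ ℳ g from y.2)] at this
  rcases hM with hM | hM
  · have : IsNoetherian k (kp 𝒜 ℳ g) := isNoetherian_iff'.mpr hmono.wellFoundedGT
    infer_instance
  · have : IsArtinian k (kp 𝒜 ℳ g) := hmono.wellFoundedLT
    have : IsNoetherian k (kp 𝒜 ℳ g) := IsSemiprimaryRing.isNoetherian_iff_isArtinian.mpr this
    infer_instance

end Groth.Agent.GDualLib
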