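import Groth.Agent.GDualLib.Basic

/-! Duality of chain conditions for graded duals. -/

set_option autoImplicit false
universe u

open DirectSum

namespace Groth.Agent.GDualLib

variable {k : Type u} [Field k] {R : Type u} [CommRing R] [Algebra k R]
  {𝒜 : ℤ → Submodule k R} [GradedAlgebra 𝒜]
  {M : Type u} [AddCommGroup M] [Module R M] [Module k M] [IsScalarTower k R M]
  {τ : Type u} [SetLike τ M] [AddSubgroupClass τ M]
  {ℳ : ℤ → τ} [Decomposition ℳ] [SetLike.GradedSMul 𝒜 ℳ]
  {D : Type u} [AddCommGroup D] [Module R D] [Module k D] [IsScalarTower k R D]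
  {τ' : Type u} [SetLike τ' D] [AddSubgroupClass τ' D]
  {𝒟 : ℤ → τ'} [Decomposition 𝒟] [SetLike.GradedSMul 𝒜 𝒟]
  {β : D →ₗ[k] M →ₗ[k] k}

variable (𝒜) in
include 𝒜 in
theorem prk_eq_zero_iff {x : M} : (∀ j, prk 𝒜 ℳ j x = 0) ↔ x = 0 := by
  refine ⟨fun h => ?_, fun h j => by simp [h]⟩
  refine (decompose ℳ).injective (DFinsupp.ext fun j => Subtype.ext ?_)
  simpa [prk] using h j

variable (𝒜) in
theorem exists_support (x : M) : ∃ s : Finset ℤ, (∀ j ∉ s, prk 𝒜 ℳ j x = 0) := by
  classical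
  induction x using DirectSum.Decomposition.inductionOn ℳ with
  | zero => exact ⟨∅, fun j _ => map_zero _⟩
  | homogeneous m =>
    rename_i i
    exact ⟨{i}, fun j hj => prk_ne m.2 (by simpa [eq_comm] using hj)⟩
  | add a b ha hb =>
    obtain ⟨s, hs⟩ := ha
    obtain ⟨t, ht⟩ := hb
    exact ⟨s ∪ t, fun j hj => by
      rw [Finset.mem_union, not_or] at hj; rw [map_add, hs j hj.1, ht j hj.2, add_zero]⟩

include 𝒜 in
theorem prk_homogeneous {P : Submodule R M} (hP : P.IsHomogeneous ℳ) {x : M} (hx : x ∈ P) (j : ℤ) :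
    prk 𝒜 ℳ j x ∈ P := hP j hx

variable (𝒜) in
include 𝒜 in
theorem span_singleton_isHomogeneous {g : ℤ} {x : M} (hx : x ∈ ℳ g) :
    (Submodule.span R {x}).IsHomogeneous ℳ := by
  classical
  intro j y hy
  change prk 𝒜 ℳ j y ∈ _
  obtain ⟨r, rfl⟩ := Submodule.mem_span_singleton.mp hy
  induction r using DirectSum.Decomposition.inductionOn 𝒜 with
  | zero => simp
  | homogeneous m =>
    rename_i i
    rw [prk_smul m.2]
    rcases eq_or_ne g (j - i) with h | h
    · rw [prk_self (h ▸ hx)]; exact Submodule.smul_mem _ _ (Submodule.mem_span_singleton_self x)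
    · rw [prk_ne hx h, smul_zero]; exact zero_mem _
  | add a b ha hb =>
    rw [add_smul, map_add]
    exact add_mem (ha (Submodule.smul_mem _ _ (Submodule.mem_span_singleton_self x)))
      (hb (Submodule.smul_mem _ _ (Submodule.mem_span_singleton_self x)))

variable (𝒜) in
/-- The pieces of a finitely generated module vanish in very low degrees. -/
theorem exists_bound_below (hpos : ∀ n : ℤ, n < 0 → 𝒜 n = ⊥) [Module.Finite R M] :
    ∃ N : ℤ, ∀ j < N, ∀ x ∈ ℳ j, x = 0 := by
  classical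
  obtain ⟨s, hs⟩ := Module.Finite.fg_top (R := R) (M := M)
  choose S hS using exists_support (ℳ := ℳ) 𝒜
  obtain ⟨N, hN⟩ : ∃ N : ℤ, ∀ j ∈ s.biUnion S, N ≤ j := (s.biUnion S).finite_toSet.bddBelow
  refine ⟨N, fun j hj x hx => ?_⟩
  suffices ∀ y ∈ Submodule.span R (s : Set M), ∀ j < N, prk 𝒜 ℳ j y = 0 by
    rw [← prk_self (𝒜 := 𝒜) hx]; exact this x (by rw [hs]; exact Submodule.mem_top) j hj
  intro y hy
  induction hy using Submodule.span_induction with
  | mem y hy =>
    exact fun j hj => hS y j fun h => absurd (hN j (Finset.mem_biUnion.mpr ⟨y, hy, h⟩)) (by omega)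
  | zero => simp
  | add a b _ _ ha hb => exact fun j hj => by rw [map_add, ha j hj, hb j hj, add_zero]
  | smul r a _ ha =>
    induction r using DirectSum.Decomposition.inductionOn 𝒜 with
    | zero => simp
    | homogeneous m =>
      rename_i i
      intro j hj
      rw [prk_smul m.2]
      rcases lt_or_ge i 0 with hi | hi
      · have : (m : R) = 0 := by obtain ⟨m, hm⟩ := m; rwa [hpos i hi, Submodule.mem_bot] at hm
        rw [this, zero_smul]
      · rw [ha _ (by omega), smul_zero]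
    | add p q hp hq => exact fun j hj => by rw [add_smul, map_add, hp j hj, hq j hj, add_zero]

variable (𝒜) (ℳ) in
/-- The submodule of elements of degrees at least `n`. -/
def geSub (hpos : ∀ n : ℤ, n < 0 → 𝒜 n = ⊥) (n : ℤ) : Submodule R M where
  carrier := {x | ∀ j < n, prk 𝒜 ℳ j x = 0}
  add_mem' ha hb j hj := by rw [map_add, ha j hj, hb j hj, add_zero]
  zero_mem' j _ := map_zero _
  smul_mem' r x hx := by
    classical
    intro j hj
    induction r using DirectSum.Decomposition.inductionOn 𝒜 with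
    | zero => simp
    | homogeneous m =>
      rename_i i
      rw [prk_smul m.2]
      rcases lt_or_ge i 0 with hi | hi
      · have : (m : R) = 0 := by obtain ⟨m, hm⟩ := m; rwa [hpos i hi, Submodule.mem_bot] at hm
        rw [this, zero_smul]
      · rw [hx _ (by omega), smul_zero]
    | add p q hp hq => rw [add_smul, map_add, hp, hq, add_zero]

variable (𝒜) in
/-- The pieces of an Artinian module vanish in very high degrees. -/
theorem exists_bound_above (hpos : ∀ n : ℤ, n < 0 → 𝒜 n = ⊥) [IsArtinian R M] :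
    ∃ N : ℤ, ∀ j, N < j → ∀ x ∈ ℳ j, x = 0 := by
  obtain ⟨n, hn⟩ := IsArtinian.monotone_stabilizes (R := R) (M := M)
    ⟨fun n : ℕ => OrderDual.toDual (geSub 𝒜 ℳ hpos n), fun a b hab x hx j hj => hx j (by omega)⟩
  refine ⟨n, fun j hj x hx => ?_⟩
  obtain ⟨m, rfl⟩ := Int.eq_ofNat_of_zero_le (show 0 ≤ j by omega)
  have h1 : geSub 𝒜 ℳ hpos m = geSub 𝒜 ℳ hpos ((m + 1 : ℕ) : ℤ) := by
    have ha := hn m (by omega)
    have hb := hn (m + 1) (by omega)
    exact OrderDual.toDual.injective (ha.symm.trans hb)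
  have hmem : x ∈ geSub 𝒜 ℳ hpos m := fun i hi => prk_ne hx (by omega)
  rw [h1] at hmem
  simpa [prk_self hx] using hmem m (by omega)

include 𝒜 in
theorem flip_isGDual (h : GrSeg.IsGDual R ℳ 𝒟 β) (hfin : ∀ g, FiniteDimensional k (kp 𝒜 ℳ g)) :
    GrSeg.IsGDual R 𝒟 ℳ β.flip where
  map_smul r x d := (h.map_smul r d x).symm
  vanish n x hx m hm d hd := h.vanish m d hd n (by omega) x hx
  eq_zero n x hx hz := by
    by_contra hne
    obtain ⟨d, hd, hd1⟩ := exists_ne_zero (𝒜 := 𝒜) h hx hne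
    exact one_ne_zero (hd1 ▸ hz d hd)
  exists_eq n φ := by
    have := hfin n
    let T : kp 𝒜 𝒟 (-n) →ₗ[k] Module.Dual k (kp 𝒜 ℳ n) :=
      ((kp 𝒜 ℳ n).subtype.dualMap.comp β).comp (kp 𝒜 𝒟 (-n)).subtype
    have hT : Function.Bijective T := by
      constructor
      · refine (injective_iff_map_eq_zero T).mpr fun d hd => Subtype.ext (h.eq_zero _ _ d.2 fun x hx => ?_)
        exact LinearMap.congr_fun hd ⟨x, by rwa [neg_neg] at hx⟩
      · intro ψ
        obtain ⟨Ψ, hΨ⟩ := LinearMap.exists_extend ψ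
        obtain ⟨d, hd, hdx⟩ := h.exists_eq (-n) Ψ
        refine ⟨⟨d, hd⟩, LinearMap.ext fun x => ?_⟩
        change β d x = ψ x
        rw [hdx x (by rw [neg_neg]; exact x.2)]
        exact LinearMap.congr_fun hΨ x
    let e := LinearEquiv.ofBijective T hT
    obtain ⟨x, hx⟩ := (Module.evalEquiv k (kp 𝒜 ℳ n)).surjective
      ((φ.comp (kp 𝒜 𝒟 (-n)).subtype).comp e.symm.toLinearMap)
    refine ⟨x, x.2, fun d hd => ?_⟩
    have := LinearMap.congr_fun hx (e ⟨d, hd⟩)
    simp only [LinearMap.comp_apply, LinearEquiv.coe_coe, LinearEquiv.symm_apply_apply] at this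
    exact this

variable (𝒜) in
/-- The orthogonal of a submodule. -/
def perp (h : GrSeg.IsGDual R ℳ 𝒟 β) (P : Submodule R D) : Submodule R M where
  carrier := {x | ∀ d ∈ P, β d x = 0}
  add_mem' ha hb d hd := by rw [map_add, ha d hd, hb d hd, add_zero]
  zero_mem' d _ := map_zero _
  smul_mem' r x hx d hd := by rw [← h.map_smul]; exact hx _ (P.smul_mem r hd)

include 𝒜 in
/-- A homogeneous submodule is its own double orthogonal. -/
theorem le_of_perp_le (h : GrSeg.IsGDual R ℳ 𝒟 β) (hfin : ∀ g, FiniteDimensional k (kp 𝒜 ℳ g))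
    {P Q : Submodule R D} (hP : P.IsHomogeneous 𝒟) (hQ : Q.IsHomogeneous 𝒟)
    (hle : perp h P ≤ perp h Q) : Q ≤ P := by
  classical
  intro d hd
  suffices ∀ n, prk 𝒜 𝒟 n d ∈ P by
    rw [← DirectSum.sum_support_decompose 𝒟 d]
    exact sum_mem fun n _ => this n
  intro n
  set e := prk 𝒜 𝒟 n d
  have heQ : e ∈ Q := prk_homogeneous hQ hd n
  let W : Submodule k (kp 𝒜 𝒟 n) := (P.restrictScalars k).comap (kp 𝒜 𝒟 n).subtype
  by_contra hne
  obtain ⟨φ, hφ1, hφW⟩ : ∃ φ : kp 𝒜 𝒟 n →ₗ[k] k, φ ⟨e, prk_mem (𝒜 := 𝒜) (ℳ := 𝒟) n d⟩ ≠ 0 ∧ ∀ w ∈ W, φ w = 0 := by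
    obtain ⟨φ, hφ1, hφ2⟩ := Submodule.exists_dual_map_eq_bot_of_notMem (p := W) hne inferInstance
    refine ⟨φ, hφ1, fun w hw => ?_⟩
    exact (Submodule.mem_bot k).mp (hφ2 ▸ Submodule.mem_map_of_mem hw)
  obtain ⟨Φ, hΦ⟩ := LinearMap.exists_extend φ
  obtain ⟨x, hx, hxd⟩ := (flip_isGDual h hfin).exists_eq (-n) Φ
  refine hφ1 ?_
  have hxP : x ∈ perp h P := fun p hp => by
    rw [← β_prk (𝒜 := 𝒜) h (n := n) hx p]
    have hpn : prk 𝒜 𝒟 n p ∈ P := prk_homogeneous hP hp n
    have := hxd (prk 𝒜 𝒟 n p) (by rw [neg_neg]; exact prk_mem n p)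
    rw [LinearMap.flip_apply] at this
    rw [this]
    exact (LinearMap.congr_fun hΦ ⟨_, prk_mem (𝒜 := 𝒜) (ℳ := 𝒟) n p⟩).trans (hφW _ hpn)
  have := hxd e (by rw [neg_neg]; exact prk_mem n d)
  rw [LinearMap.flip_apply, hle hxP e heQ] at this
  exact (LinearMap.congr_fun hΦ ⟨e, prk_mem (𝒜 := 𝒜) (ℳ := 𝒟) n d⟩).symm.trans this.symm

include 𝒜 in
/-- The dual of an Artinian module is finitely generated. -/
theorem finite_dual (hpos : ∀ n : ℤ, n < 0 → 𝒜 n = ⊥) (h0 : 𝒜 0 = Submodule.span k {(1 : R)})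
    (h : GrSeg.IsGDual R ℳ 𝒟 β) [IsArtinian R M] : Module.Finite R D := by
  classical
  have hfin := fun g => finiteDimensional_kp (ℳ := ℳ) hpos h0 (Or.inr ‹_›) g
  let S : Set (Submodule R M) :=
    {Q | ∃ P : Submodule R D, P.IsHomogeneous 𝒟 ∧ P.FG ∧ Q = perp h P}
  obtain ⟨Q, ⟨P, hP, hPfg, rfl⟩, hmin⟩ := wellFounded_lt.has_min S
    ⟨perp h ⊥, ⊥, fun j x hx => by rw [Submodule.mem_bot] at hx; simp [hx], Submodule.fg_bot, rfl⟩
  refine ⟨?_⟩
  suffices (⊤ : Submodule R D) ≤ P from (top_le_iff.mp this) ▸ hPfg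
  intro d _
  rw [← DirectSum.sum_support_decompose 𝒟 d]
  refine sum_mem fun n _ => ?_
  by_contra hne
  set e := ((decompose 𝒟 d n : 𝒟 n) : D)
  set P' := P ⊔ Submodule.span R {e}
  have hP' : P'.IsHomogeneous 𝒟 := by
    intro j y hy
    change prk 𝒜 𝒟 j y ∈ P'
    obtain ⟨a, ha, b, hb, rfl⟩ := Submodule.mem_sup.mp hy
    rw [map_add]
    exact add_mem (Submodule.mem_sup_left (prk_homogeneous hP ha j)) (Submodule.mem_sup_right
      (prk_homogeneous (span_singleton_isHomogeneous 𝒜 (decompose 𝒟 d n).2) hb j))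
  have hle : perp h P' ≤ perp h P := fun x hx p hp => hx p (Submodule.mem_sup_left hp)
  refine hne (le_of_perp_le (𝒜 := 𝒜) h hfin hP hP' ?_ (Submodule.mem_sup_right (Submodule.mem_span_singleton_self e)))
  exact (hle.eq_of_not_lt (hmin _ ⟨P', hP', hPfg.sup (Submodule.fg_span_singleton e), rfl⟩)).ge

include 𝒜 in
/-- The dual of a finitely generated module is Artinian. -/
theorem isArtinian_dual (hpos : ∀ n : ℤ, n < 0 → 𝒜 n = ⊥) (h0 : 𝒜 0 = Submodule.span k {(1 : R)})
    (h : GrSeg.IsGDual R ℳ 𝒟 β) [IsNoetherian R M] : IsArtinian R D := by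
  classical
  have hfin := fun g => finiteDimensional_kp (ℳ := ℳ) hpos h0 (Or.inl ‹_›) g
  obtain ⟨N, hN⟩ := exists_bound_below (ℳ := ℳ) 𝒜 hpos
  have hDN : ∀ (d : D) (j : ℤ), -N < j → prk 𝒜 𝒟 j d = 0 := fun d j hj =>
    h.eq_zero j _ (prk_mem j d) fun x hx => by rw [hN _ (by omega) x hx, map_zero]
  -- the lowest components of a submodule
  let low : Submodule R D → Set D := fun P =>
    {e | ∃ p ∈ P, ∃ n, (∀ j < n, prk 𝒜 𝒟 j p = 0) ∧ e = prk 𝒜 𝒟 n p}
  have hhom : ∀ P, (Submodule.span R (low P)).IsHomogeneous 𝒟 := by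
    intro P j y hy
    change prk 𝒜 𝒟 j y ∈ _
    induction hy using Submodule.span_induction generalizing j with
    | mem y hy =>
      obtain ⟨p, hp, n, hn, rfl⟩ := id hy
      rcases eq_or_ne n j with rfl | hj
      · rw [prk_self (prk_mem n p)]; exact Submodule.subset_span hy
      · rw [prk_ne (prk_mem n p) hj]; exact zero_mem _
    | zero => simp
    | add a b _ _ ha hb => rw [map_add]; exact add_mem (ha j) (hb j)
    | smul r a _ ha =>
      induction r using DirectSum.Decomposition.inductionOn 𝒜 with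
      | zero => simp
      | homogeneous m => rw [prk_smul m.2]; exact Submodule.smul_mem _ _ (ha _)
      | add p q hp hq => rw [add_smul, map_add]; exact add_mem hp hq
  have hlow : ∀ P, ∀ y ∈ Submodule.span R (low P), ∀ n,
      ∃ p ∈ P, (∀ j < n, prk 𝒜 𝒟 j p = 0) ∧ prk 𝒜 𝒟 n p = prk 𝒜 𝒟 n y := by
    intro P y hy
    induction hy using Submodule.span_induction with
    | mem y hy =>
      obtain ⟨p, hp, m, hm, rfl⟩ := id hy
      intro n
      rcases eq_or_ne m n with rfl | hmn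
      · exact ⟨p, hp, hm, (prk_self (prk_mem m p)).symm⟩
      · exact ⟨0, P.zero_mem, fun j _ => map_zero _, by rw [map_zero, prk_ne (prk_mem m p) hmn]⟩
    | zero => exact fun n => ⟨0, P.zero_mem, fun j _ => map_zero _, by simp⟩
    | add a b _ _ ha hb =>
      intro n
      obtain ⟨p, hp, hp1, hp2⟩ := ha n
      obtain ⟨q, hq, hq1, hq2⟩ := hb n
      exact ⟨p + q, P.add_mem hp hq, fun j hj => by rw [map_add, hp1 j hj, hq1 j hj, add_zero],
        by rw [map_add, map_add, hp2, hq2]⟩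
    | smul r a _ ha =>
      induction r using DirectSum.Decomposition.inductionOn 𝒜 with
      | zero => exact fun n => ⟨0, P.zero_mem, fun j _ => map_zero _, by simp⟩
      | homogeneous m =>
        rename_i i
        intro n
        obtain ⟨p, hp, hp1, hp2⟩ := ha (n - i)
        exact ⟨(m : R) • p, P.smul_mem _ hp, fun j hj => by rw [prk_smul m.2, hp1 _ (by omega), smul_zero],
          by rw [prk_smul m.2, prk_smul m.2, hp2]⟩
      | add x z hx hz =>
        intro n
        obtain ⟨p, hp, hp1, hp2⟩ := hx n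
        obtain ⟨q, hq, hq1, hq2⟩ := hz n
        exact ⟨p + q, P.add_mem hp hq, fun j hj => by rw [map_add, hp1 j hj, hq1 j hj, add_zero],
          by rw [add_smul, map_add, map_add, hp2, hq2]⟩
  let F : Submodule R D → (Submodule R M)ᵒᵈ := fun P => OrderDual.toDual (perp h (Submodule.span R (low P)))
  have hF : StrictMono F := by
    have hmono : ∀ {P Q : Submodule R D}, P ≤ Q → Submodule.span R (low P) ≤ Submodule.span R (low Q) :=
      fun hPQ => Submodule.span_mono fun e ⟨p, hp, hrest⟩ => ⟨p, hPQ hp, hrest⟩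
    intro P Q hPQ
    refine lt_of_le_of_ne (fun x hx d hd => hx d (hmono hPQ.le hd)) fun heq => hPQ.not_ge ?_
    have hle : Submodule.span R (low Q) ≤ Submodule.span R (low P) :=
      le_of_perp_le (𝒜 := 𝒜) h hfin (hhom P) (hhom Q) (congrArg OrderDual.ofDual heq).le
    intro q hq
    -- strip the lowest component
    suffices ∀ (t : ℕ) (q : D), q ∈ Q → (∀ j, j ≤ -N - t → prk 𝒜 𝒟 j q = 0) → q ∈ P by
      obtain ⟨s, hs⟩ := exists_support (ℳ := 𝒟) 𝒜 q
      obtain ⟨b, hb⟩ := s.finite_toSet.bddBelow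
      refine this (-N - b + 1).toNat q hq fun j hj => hs j fun hjs => ?_
      have := hb hjs
      omega
    intro t
    induction t with
    | zero =>
      intro q _ hq0
      rw [(prk_eq_zero_iff (ℳ := 𝒟) 𝒜).mp fun j =>
        (le_or_gt j (-N)).elim (fun hj => hq0 j (by simpa using hj)) (hDN q j)]
      exact P.zero_mem
    | succ t ih =>
      intro q hq hq0
      set n : ℤ := -N - t
      have h1 : prk 𝒜 𝒟 n q ∈ Submodule.span R (low Q) :=
        Submodule.subset_span ⟨q, hq, n, fun j hj => hq0 j (by omega), rfl⟩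
      obtain ⟨p, hp, hp1, hp2⟩ := hlow P _ (hle h1) n
      rw [prk_self (prk_mem n q)] at hp2
      have := ih (q - p) (Q.sub_mem hq (hPQ.le hp)) fun j hj => by
        rw [map_sub]
        rcases eq_or_ne j n with rfl | hjn
        · rw [hp2, sub_self]
        · rw [hq0 j (by omega), hp1 j (by omega), sub_zero]
      simpa using P.add_mem this hp
  exact hF.wellFoundedLT

end Groth.Agent.GDualLib
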